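import Cfsg.Agent.H848.PSq.SevenTwoOf
import Cfsg.Agent.S5009

/-!
# S4844, team PSQ, PS-13: `seven_two`
-/

set_option autoImplicit false

namespace Cfsg.Agent.H848.PSq

open Cfsg Subgroup Cfsg.Agent.H33

universe u

theorem fact5009 : H681.Sev.Sub.Fact5009.{u} := fun _ _ _ h => S5009.result (not_IM_iff.1 h)

/-- **PS-13** -/
theorem seven_two {K : Type u} [Group K] [Finite K] (_hK : commutator K = ⊤) {V : Subgroup K} [V.Normal]
    (h2 : IsPGroup 2 V) (hmin : ∀ N : Subgroup K, N.Normal → N ≤ V → N = ⊥ ∨ N = V) (hnc : ¬ V ≤ center K)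
    (e : Nonempty (K ⧸ V ≃* alternatingGroup (Fin 7))) : H33.IM 4 K :=
  seven_two_of_fact fact5009 h2 hmin hnc e

end Cfsg.Agent.H848.PSq
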