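import Mathlib

/-!
# S4844, team PSQ, PS-13: a counting argument for modules of the alternating group of degree 7

`count_absurd`: a group with 105 involutions, 630 elements of order 4, ... has no non-zero elementary abelian
`2`-group `M` on which it acts such that the elements of order 5, 7 act without fixed points and every element of
`M` is fixed by a subgroup of order 4.
-/

set_option autoImplicit false
set_option linter.unusedSectionVars false

namespace Cfsg.Agent.H848.PSq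

universe u v

section mod

variable {A : Type v} [Group A] {M : Type u} [AddCommGroup M] [DistribMulAction A M]

/-- The fixed points of an element. -/
def Fx (M : Type u) [AddCommGroup M] [DistribMulAction A M] (t : A) : Type u := {m : M // t • m = m}

theorem mod_card [Finite M] {p : ℕ} (hp : p.Prime) {x : A} (hx : orderOf x = p)
    (h : ∀ m : M, x • m = m → m = 0) : Nat.card M ≡ 1 [MOD p] := by
  classical
  have : Fact p.Prime := ⟨hp⟩
  have hpg : IsPGroup p (Subgroup.zpowers x) :=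
    IsPGroup.of_card (n := 1) (by rw [Nat.card_zpowers, hx, pow_one])
  have h1 := hpg.card_modEq_card_fixedPoints M
  have h2 : Nat.card (MulAction.fixedPoints (Subgroup.zpowers x) M) = 1 := by
    rw [Nat.card_eq_one_iff_unique]
    refine ⟨⟨fun a b => Subtype.ext ?_⟩, ⟨⟨0, fun g => smul_zero g⟩⟩⟩
    rw [h a (a.2 ⟨x, Subgroup.mem_zpowers x⟩), h b (b.2 ⟨x, Subgroup.mem_zpowers x⟩)]
  rwa [h2] at h1

theorem norm_zero {x : A} (hx : x ^ 5 = 1) (h : ∀ m : M, x • m = m → m = 0) (m : M) :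
    m + x • m + x ^ 2 • m + x ^ 3 • m + x ^ 4 • m = 0 := by
  apply h
  have h1 : x • x ^ 4 • m = m := by rw [smul_smul, ← pow_succ', hx, one_smul]
  have h2 : x • x ^ 3 • m = x ^ 4 • m := by rw [smul_smul, ← pow_succ']
  have h3 : x • x ^ 2 • m = x ^ 3 • m := by rw [smul_smul, ← pow_succ']
  have h4 : x • x • m = x ^ 2 • m := by rw [smul_smul, pow_two]
  rw [smul_add, smul_add, smul_add, smul_add, h1, h2, h3, h4]
  abel

/-- The sum over the powers of an element of order 4. -/
def Su (u : A) (m : M) : M := m + u • m + u • u • m + u • u • u • m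

theorem Su_add (u : A) (m m' : M) : Su u (m + m') = Su u m + Su u m' := by
  unfold Su
  simp only [smul_add]
  abel

theorem Su_pow (h2 : ∀ m : M, m + m = 0) {u x : A} (hx : x ^ 5 = 1) (h : ∀ m : M, x • m = m → m = 0)
    (hux : u * x * u⁻¹ = x ^ 2) {c : M} (hc : u • c = c) (e : ℕ) :
    Su u (x ^ e • c) = if 5 ∣ e then 0 else c := by
  have hu : ∀ i : ℕ, u • x ^ i • c = x ^ (2 * i) • c := by
    intro i
    have h1 : u * x ^ i = x ^ (2 * i) * u := by
      rw [pow_mul, ← hux, conj_pow, inv_mul_cancel_right]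
    rw [smul_smul, h1, ← smul_smul, hc]
  have hm : ∀ i : ℕ, x ^ i = x ^ (i % 5) := by
    intro i
    conv_lhs => rw [← Nat.div_add_mod i 5, pow_add, pow_mul, hx, one_pow, one_mul]
  have hneg : ∀ m : M, -m = m := fun m => neg_eq_of_add_eq_zero_left (h2 m)
  have hN : x ^ 1 • c + x ^ 2 • c + x ^ 3 • c + x ^ 4 • c = c := by
    have h3 := norm_zero hx h c
    rw [pow_one]
    have h4 : c + (x • c + x ^ 2 • c + x ^ 3 • c + x ^ 4 • c) = 0 := by rw [← h3]; abel
    have h5 := (neg_eq_of_add_eq_zero_right h4).symm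
    rwa [hneg c] at h5
  unfold Su
  rw [hu, hu, hu, hm e, hm (2 * e), hm (2 * (2 * e)), hm (2 * (2 * (2 * e)))]
  have h5 : e % 5 < 5 := Nat.mod_lt _ (by norm_num)
  have k1 : (2 * e) % 5 = (2 * (e % 5)) % 5 := by omega
  have k2 : (2 * (2 * e)) % 5 = (4 * (e % 5)) % 5 := by omega
  have k3 : (2 * (2 * (2 * e))) % 5 = (3 * (e % 5)) % 5 := by omega
  have k4 : (5 ∣ e) ↔ e % 5 = 0 := Nat.dvd_iff_mod_eq_zero
  rw [k1, k2, k3]
  simp only [k4]
  generalize e % 5 = r at h5
  interval_cases r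
  · simp only [Nat.mul_zero, Nat.zero_mod, pow_zero, one_smul, if_true]
    rw [h2 c, zero_add, h2 c]
  · norm_num
    rw [pow_one] at hN
    conv_rhs => rw [← hN]
    abel
  · norm_num
    rw [pow_one] at hN
    conv_rhs => rw [← hN]
    abel
  · norm_num
    rw [pow_one] at hN
    conv_rhs => rw [← hN]
    abel
  · norm_num
    rw [pow_one] at hN
    conv_rhs => rw [← hN]
    abel

theorem four_zero (h2 : ∀ m : M, m + m = 0) {u x : A} (hx : x ^ 5 = 1) (h : ∀ m : M, x • m = m → m = 0)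
    (hux : u * x * u⁻¹ = x ^ 2) {a b c d : M} (ha : u • a = a) (hb : u • b = b) (hc : u • c = c) (hd : u • d = d)
    (h0 : a + x • b + x ^ 2 • c + x ^ 3 • d = 0) : a = 0 ∧ b = 0 ∧ c = 0 ∧ d = 0 := by
  have key : ∀ e : ℕ, (if 5 ∣ e then 0 else a) + (if 5 ∣ e + 1 then 0 else b) + (if 5 ∣ e + 2 then 0 else c)
      + (if 5 ∣ e + 3 then 0 else d) = 0 := by
    intro e
    have h1 : x ^ e • a + x ^ (e + 1) • b + x ^ (e + 2) • c + x ^ (e + 3) • d = 0 := by
      have h3 := congrArg (fun m => x ^ e • m) h0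
      simp only [smul_add, smul_zero, smul_smul] at h3
      rw [← pow_succ, ← pow_add, ← pow_add] at h3
      exact h3
    have h3 := congrArg (fun m => Su u m) h1
    simp only [Su_add] at h3
    rw [Su_pow h2 hx h hux ha, Su_pow h2 hx h hux hb, Su_pow h2 hx h hux hc, Su_pow h2 hx h hux hd] at h3
    rw [h3]
    unfold Su
    simp only [smul_zero, add_zero]
  have k0 := key 1
  have k1 := key 0
  have k2 := key 4
  have k3 := key 3
  have k4 := key 2
  norm_num at k0 k1 k2 k3 k4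
  -- k0 : a + b + c + d = 0, k1 : b + c + d = 0, ...
  have ha0 : a = 0 := by
    have h3 : a + (b + c + d) = 0 := by rw [← k0]; abel
    rwa [k1, add_zero] at h3
  have hb0 : b = 0 := by
    have h3 : b + (a + c + d) = 0 := by rw [← k0]; abel
    rwa [k2, add_zero] at h3
  have hc0 : c = 0 := by
    have h3 : c + (a + b + d) = 0 := by rw [← k0]; abel
    rwa [k3, add_zero] at h3
  have hd0 : d = 0 := by
    have h3 : d + (a + b + c) = 0 := by rw [← k0]; abel
    rwa [k4, add_zero] at h3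
  exact ⟨ha0, hb0, hc0, hd0⟩

theorem card_Fx_four [Finite M] (h2 : ∀ m : M, m + m = 0) {u x : A} (hx : x ^ 5 = 1)
    (h : ∀ m : M, x • m = m → m = 0) (hux : u * x * u⁻¹ = x ^ 2) :
    Nat.card (Fx M u) ^ 4 ≤ Nat.card M := by
  have : Finite (Fx M u) := inferInstanceAs (Finite {m : M // u • m = m})
  let F : Fx M u × Fx M u × Fx M u × Fx M u → M := fun p =>
    p.1.1 + x • p.2.1.1 + x ^ 2 • p.2.2.1.1 + x ^ 3 • p.2.2.2.1
  have hF : Function.Injective F := by
    rintro ⟨a, b, c, d⟩ ⟨a', b', c', d'⟩ hp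
    have h3 : a.1 + x • b.1 + x ^ 2 • c.1 + x ^ 3 • d.1
        = a'.1 + x • b'.1 + x ^ 2 • c'.1 + x ^ 3 • d'.1 := hp
    have h4 : (a.1 - a'.1) + x • (b.1 - b'.1) + x ^ 2 • (c.1 - c'.1) + x ^ 3 • (d.1 - d'.1) = 0 := by
      rw [smul_sub, smul_sub, smul_sub]
      rw [← sub_eq_zero] at h3
      rw [← h3]
      abel
    have hs : ∀ e e' : Fx M u, u • (e.1 - e'.1) = e.1 - e'.1 := fun e e' => by
      rw [smul_sub, e.2, e'.2]
    obtain ⟨k1, k2, k3, k4⟩ := four_zero h2 hx h hux (hs a a') (hs b b') (hs c c') (hs d d') h4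
    rw [Subtype.ext (sub_eq_zero.1 k1), Subtype.ext (sub_eq_zero.1 k2), Subtype.ext (sub_eq_zero.1 k3),
      Subtype.ext (sub_eq_zero.1 k4)]
  have h3 := Nat.card_le_card_of_injective F hF
  rw [Nat.card_prod, Nat.card_prod, Nat.card_prod] at h3
  calc Nat.card (Fx M u) ^ 4 = Nat.card (Fx M u) * (Nat.card (Fx M u) * (Nat.card (Fx M u) * Nat.card (Fx M u))) := by
        ring
    _ ≤ _ := h3

theorem card_Fx_conj (t g : A) : Nat.card (Fx M (g * t * g⁻¹)) = Nat.card (Fx M t) := by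
  refine Nat.card_congr ⟨fun m => ⟨g⁻¹ • m.1, ?_⟩, fun m => ⟨g • m.1, ?_⟩, fun m => Subtype.ext ?_,
    fun m => Subtype.ext ?_⟩
  · have h1 := m.2
    conv_rhs => rw [← h1]
    rw [smul_smul, smul_smul]
    congr 1
    group
  · rw [smul_smul, inv_mul_cancel_right, ← smul_smul, m.2]
  · exact smul_inv_smul g m.1
  · exact inv_smul_smul g m.1

theorem card_Fx_two [Finite M] {t g : A} (h : ∀ m : M, (t * (g * t * g⁻¹)) • m = m → m = 0) :
    Nat.card (Fx M t) ^ 2 ≤ Nat.card M := by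
  have : Finite (Fx M t) := inferInstanceAs (Finite {m : M // t • m = m})
  have : Finite (Fx M (g * t * g⁻¹)) := inferInstanceAs (Finite {m : M // (g * t * g⁻¹) • m = m})
  let F : Fx M t × Fx M (g * t * g⁻¹) → M := fun p => p.1.1 + p.2.1
  have hF : Function.Injective F := by
    rintro ⟨a, b⟩ ⟨a', b'⟩ hp
    have h3 : a.1 + b.1 = a'.1 + b'.1 := hp
    have h4 : a.1 - a'.1 = b'.1 - b.1 := by
      rw [sub_eq_sub_iff_add_eq_add, h3]
      abel
    have h5 : a.1 - a'.1 = 0 := by
      apply h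
      rw [← smul_smul]
      conv_lhs => rw [h4]
      rw [smul_sub (g * t * g⁻¹), b.2, b'.2, ← h4, smul_sub, a.2, a'.2]
    have h6 : b'.1 - b.1 = 0 := by rw [← h4, h5]
    rw [Subtype.ext (sub_eq_zero.1 h5), Subtype.ext (sub_eq_zero.1 h6)]
  have h3 := Nat.card_le_card_of_injective F hF
  rw [Nat.card_prod, card_Fx_conj] at h3
  rwa [sq]

/-- the number of pairs `(m, t)` with `m ≠ 0` fixed by `t`, `t` of order `r`. -/
theorem count [Fintype A] [Fintype M] [DecidableEq A] [DecidableEq M] (r B : ℕ)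
    (hB : ∀ t : A, orderOf t = r → Nat.card (Fx M t) ≤ B + 1) :
    ∑ m ∈ Finset.univ.filter (fun m : M => m ≠ 0),
      (Finset.univ.filter (fun t : A => orderOf t = r ∧ t • m = m)).card
      ≤ Nat.card {t : A // orderOf t = r} * B := by
  have h1 : ∀ m : M, (Finset.univ.filter (fun t : A => orderOf t = r ∧ t • m = m)).card
      = ∑ t ∈ Finset.univ.filter (fun t : A => orderOf t = r), if t • m = m then 1 else 0 := by
    intro m
    rw [Finset.sum_boole, Finset.filter_filter]
    simp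
  simp only [h1]
  rw [Finset.sum_comm]
  have h2 : ∀ t ∈ Finset.univ.filter (fun t : A => orderOf t = r),
      (∑ m ∈ Finset.univ.filter (fun m : M => m ≠ 0), if t • m = m then 1 else 0) ≤ B := by
    intro t ht
    have h3 := hB t (Finset.mem_filter.1 ht).2
    rw [Finset.sum_boole, Finset.filter_filter]
    have h4 : Nat.card (Fx M t) = (Finset.univ.filter (fun m : M => t • m = m)).card := by
      unfold Fx
      rw [Nat.card_eq_fintype_card, Fintype.card_subtype]
    have h5 : (Finset.univ.filter (fun m : M => m ≠ 0 ∧ t • m = m))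
        = (Finset.univ.filter (fun m : M => t • m = m)).erase 0 := by
      ext m
      simp
    have h6 : (0 : M) ∈ (Finset.univ.filter (fun m : M => t • m = m)) := by simp
    have h7 := Finset.card_erase_of_mem h6
    rw [← h5, ← h4] at h7
    simp only [Nat.cast_id]
    omega
  refine (Finset.sum_le_sum h2).trans ?_
  rw [Finset.sum_const, smul_eq_mul, Nat.card_eq_fintype_card, Fintype.card_subtype]

/-- the local count. -/
theorem three_le [Fintype A] [DecidableEq A] {X : Type u} [MulAction A X] [DecidableEq X] {m : X} (N : Subgroup A)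
    (hN : Nat.card N = 4) (hm : ∀ a ∈ N, a • m = m) :
    3 ≤ (Finset.univ.filter (fun t : A => orderOf t = 2 ∧ t • m = m)).card
      + (Finset.univ.filter (fun t : A => orderOf t = 4 ∧ t • m = m)).card := by
  classical
  have h4 : ∀ a ∈ N, orderOf a ∣ 4 := fun a ha => by
    rw [← hN, ← Subgroup.orderOf_mk a ha]
    exact orderOf_dvd_natCard _
  -- all non-identity elements of `N` are counted
  have h1 : (Finset.univ.filter (fun a : A => a ∈ N ∧ a ≠ 1)).card = 3 := by
    have h2 : (Finset.univ.filter (fun a : A => a ∈ N ∧ a ≠ 1)) = (Finset.univ.filter (fun a : A => a ∈ N)).erase 1 := by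
      ext a
      simp [and_comm]
    have h3 : (Finset.univ.filter (fun a : A => a ∈ N)).card = 4 := by
      rw [← hN, Nat.card_eq_fintype_card, Fintype.card_subtype]
    rw [h2, Finset.card_erase_of_mem (by simp [N.one_mem]), h3]
  rw [← h1, ← Finset.card_union_of_disjoint]
  · apply Finset.card_le_card
    intro a ha
    rw [Finset.mem_filter] at ha
    rw [Finset.mem_union, Finset.mem_filter, Finset.mem_filter]
    have h2 := h4 a ha.2.1
    have h3 : orderOf a ≠ 1 := fun h => ha.2.2 (orderOf_eq_one_iff.1 h)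
    have h5 : orderOf a = 1 ∨ orderOf a = 2 ∨ orderOf a = 4 := by
      have h6 : orderOf a ≤ 4 := Nat.le_of_dvd (by norm_num) h2
      interval_cases orderOf a <;> simp_all
    rcases h5 with h5 | h5 | h5
    · exact absurd h5 h3
    · exact Or.inl ⟨Finset.mem_univ _, h5, hm a ha.2.1⟩
    · exact Or.inr ⟨Finset.mem_univ _, h5, hm a ha.2.1⟩
  · rw [Finset.disjoint_left]
    intro a h2 h3
    rw [Finset.mem_filter] at h2 h3
    have := h2.2.1.symm.trans h3.2.1
    omega

theorem count_absurd [Finite A] [Finite M] [Nontrivial M] (h2 : ∀ m : M, m + m = 0)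
    (f3 : Nat.card {t : A // orderOf t = 2} = 105) (f4 : Nat.card {t : A // orderOf t = 4} = 630)
    (f5 : ∀ t : A, orderOf t = 2 → ∃ g : A, orderOf (t * (g * t * g⁻¹)) = 5)
    (f6 : ∀ u : A, orderOf u = 4 → ∃ x : A, orderOf x = 5 ∧ u * x * u⁻¹ = x ^ 2)
    (e5 : ∃ x : A, orderOf x = 5) (e7 : ∃ x : A, orderOf x = 7)
    (h5 : ∀ x : A, orderOf x = 5 → ∀ m : M, x • m = m → m = 0)
    (h7 : ∀ x : A, orderOf x = 7 → ∀ m : M, x • m = m → m = 0)
    (h4 : ∀ m : M, m ≠ 0 → ∃ N : Subgroup A, Nat.card N = 4 ∧ ∀ a ∈ N, a • m = m) : False := by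
  classical
  have : Fintype A := Fintype.ofFinite A
  have : Fintype M := Fintype.ofFinite M
  obtain ⟨x5, hx5⟩ := e5
  obtain ⟨x7, hx7⟩ := e7
  have c5 := mod_card (M := M) (by norm_num) hx5 (h5 x5 hx5)
  have c7 := mod_card (M := M) (by norm_num) hx7 (h7 x7 hx7)
  -- the order of `M`
  obtain ⟨n, hn⟩ : ∃ n, Nat.card M = 2 ^ n := by
    have h1 : IsPGroup 2 (Multiplicative M) := by
      intro m
      refine ⟨1, ?_⟩
      rw [pow_one, pow_two]
      exact h2 m.toAdd
    have : Fact (Nat.Prime 2) := ⟨Nat.prime_two⟩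
    obtain ⟨n, hn⟩ := IsPGroup.iff_card.1 h1
    exact ⟨n, hn⟩
  rw [hn] at c5 c7
  have d4 : 4 ∣ n := by
    have h1 : 2 ^ n % 5 = 2 ^ (n % 4) % 5 := by
      conv_lhs => rw [← Nat.div_add_mod n 4, pow_add, pow_mul, Nat.mul_mod, Nat.pow_mod]
      norm_num
    have h3 : 2 ^ n % 5 = 1 := c5
    rw [h1] at h3
    have h6 : n % 4 < 4 := Nat.mod_lt _ (by norm_num)
    apply Nat.dvd_of_mod_eq_zero
    generalize n % 4 = r at h3 h6
    interval_cases r <;> simp_all
  have d3 : 3 ∣ n := by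
    have h1 : 2 ^ n % 7 = 2 ^ (n % 3) % 7 := by
      conv_lhs => rw [← Nat.div_add_mod n 3, pow_add, pow_mul, Nat.mul_mod, Nat.pow_mod]
      norm_num
    have h3 : 2 ^ n % 7 = 1 := c7
    rw [h1] at h3
    have h6 : n % 3 < 3 := Nat.mod_lt _ (by norm_num)
    apply Nat.dvd_of_mod_eq_zero
    generalize n % 3 = r at h3 h6
    interval_cases r <;> simp_all
  have hn0 : n ≠ 0 := by
    rintro rfl
    have h1 : 1 < Nat.card M := Finite.one_lt_card
    rw [hn] at h1
    exact absurd h1 (by norm_num)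
  obtain ⟨a, ha⟩ : 12 ∣ n := by
    have : Nat.Coprime 4 3 := by decide
    exact this.mul_dvd_of_dvd_of_dvd d4 d3
  have ha0 : 1 ≤ a := by omega
  obtain ⟨y, hy⟩ : ∃ y, y = 2 ^ (3 * a) := ⟨_, rfl⟩
  have hM : Nat.card M = y ^ 4 := by
    rw [hn, ha, hy, ← pow_mul]
    congr 1
    ring
  have hy8 : 8 ≤ y := by
    rw [hy]
    calc 8 = 2 ^ 3 := by norm_num
      _ ≤ 2 ^ (3 * a) := Nat.pow_le_pow_right (by norm_num) (by omega)
  have b2 : ∀ t : A, orderOf t = 2 → Nat.card (Fx M t) ≤ (y ^ 2 - 1) + 1 := by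
    intro t ht
    obtain ⟨g, hg⟩ := f5 t ht
    have h1 := card_Fx_two (h5 _ hg)
    rw [hM] at h1
    have h3 : Nat.card (Fx M t) ≤ y ^ 2 := by
      rw [show y ^ 4 = (y ^ 2) ^ 2 by ring] at h1
      exact (Nat.pow_le_pow_iff_left (by norm_num)).1 h1
    exact h3.trans (by omega)
  have b4 : ∀ u : A, orderOf u = 4 → Nat.card (Fx M u) ≤ (y - 1) + 1 := by
    intro u hu
    obtain ⟨x, hx, hux⟩ := f6 u hu
    have h1 := card_Fx_four h2 (by rw [← hx, pow_orderOf_eq_one]) (h5 x hx) hux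
    rw [hM] at h1
    have h3 : Nat.card (Fx M u) ≤ y := (Nat.pow_le_pow_iff_left (by norm_num)).1 h1
    exact h3.trans (by omega)
  have s2 := count (A := A) (M := M) 2 (y ^ 2 - 1) b2
  have s4 := count (A := A) (M := M) 4 (y - 1) b4
  rw [f3] at s2
  rw [f4] at s4
  have s3 : 3 * (y ^ 4 - 1) ≤ ∑ m ∈ Finset.univ.filter (fun m : M => m ≠ 0),
      ((Finset.univ.filter (fun t : A => orderOf t = 2 ∧ t • m = m)).card
        + (Finset.univ.filter (fun t : A => orderOf t = 4 ∧ t • m = m)).card) := by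
    have h1 : (Finset.univ.filter (fun m : M => m ≠ 0)).card = y ^ 4 - 1 := by
      rw [← hM, Nat.card_eq_fintype_card, ← Finset.card_univ, ← Finset.card_erase_of_mem (Finset.mem_univ (0 : M))]
      congr 1
      ext m
      simp
    rw [← h1, mul_comm, ← smul_eq_mul]
    apply Finset.card_nsmul_le_sum
    intro m hm
    obtain ⟨N, hN, hNm⟩ := h4 m (Finset.mem_filter.1 hm).2
    exact three_le N hN hNm
  rw [Finset.sum_add_distrib] at s3
  have s5 : 3 * (y ^ 4 - 1) ≤ 105 * (y ^ 2 - 1) + 630 * (y - 1) := s3.trans (Nat.add_le_add s2 s4)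
  obtain ⟨w, rfl⟩ : ∃ w, y = w + 8 := ⟨y - 8, by omega⟩
  have e1 : (w + 8) ^ 4 - 1 = w ^ 4 + 32 * w ^ 3 + 384 * w ^ 2 + 2048 * w + 4095 := by
    apply Nat.sub_eq_of_eq_add
    ring
  have e2 : (w + 8) ^ 2 - 1 = w ^ 2 + 16 * w + 63 := by
    apply Nat.sub_eq_of_eq_add
    ring
  have e3 : w + 8 - 1 = w + 7 := rfl
  rw [e1, e2, e3] at s5
  nlinarith [Nat.zero_le (w ^ 4), Nat.zero_le (w ^ 3), Nat.zero_le (w ^ 2), Nat.zero_le w]

end mod

end Cfsg.Agent.H848.PSq
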