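import Cfsg.Agent.H848.PSq.Lift
import Cfsg.Agent.H848.PSq.Mod
import Cfsg.Agent.H33.IM
import Cfsg.Agent.SolvableStructure.MinimalNormal
import Mathlib.GroupTheory.SpecificGroups.Alternating

/-!
# S4844, team PSQ, PS-13: assembly from facts on the alternating group of degree 7
-/

set_option autoImplicit false
set_option linter.unusedSectionVars false

namespace Cfsg.Agent.H848.PSq

open Cfsg Cfsg.Agent.Characters Cfsg.Agent.Characters.Core Cfsg.Agent.H33

universe u v w

/-! ## The action on linear characters -/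

section act

variable {K : Type u} [Group K] (V : Subgroup K) [hVn : V.Normal]

/-- The conjugation action on the linear characters of a normal subgroup. -/
def conjHom : K →* MulAut (V →* ℂˣ) where
  toFun g :=
    { toFun := fun l => l.comp (MulAut.conjNormal g⁻¹ : MulAut V).toMonoidHom
      invFun := fun l => l.comp (MulAut.conjNormal g : MulAut V).toMonoidHom
      left_inv := by
        intro l
        apply MonoidHom.ext
        intro v
        show l (MulAut.conjNormal g⁻¹ (MulAut.conjNormal g v)) = l v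
        rw [map_inv]
        congr 1
        exact MulAut.inv_apply_self V _ v
      right_inv := by
        intro l
        apply MonoidHom.ext
        intro v
        show l (MulAut.conjNormal g (MulAut.conjNormal g⁻¹ v)) = l v
        rw [map_inv]
        congr 1
        exact MulAut.apply_inv_self V _ v
      map_mul' := fun l l' => rfl }
  map_one' := by
    apply MulEquiv.ext
    intro l
    apply MonoidHom.ext
    intro v
    show l (MulAut.conjNormal (1 : K)⁻¹ v) = l v
    rw [inv_one, map_one]
    rfl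
  map_mul' g h := by
    apply MulEquiv.ext
    intro l
    apply MonoidHom.ext
    intro v
    show l (MulAut.conjNormal (g * h)⁻¹ v) = l (MulAut.conjNormal h⁻¹ (MulAut.conjNormal g⁻¹ v))
    rw [mul_inv_rev, map_mul]
    rfl

theorem conjHom_apply (g : K) (l : V →* ℂˣ) (v : V) :
    conjHom V g l v = l ⟨g⁻¹ * v * g, by
      have := hVn.conj_mem v v.2 g⁻¹
      rwa [inv_inv] at this⟩ := by
  have h : (MulAut.conjNormal g⁻¹ : MulAut V) v = ⟨g⁻¹ * v * g, by
      have := hVn.conj_mem v v.2 g⁻¹
      rwa [inv_inv] at this⟩ := by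
    apply Subtype.ext
    show ((MulAut.conjNormal g⁻¹ : MulAut V) v : K) = g⁻¹ * v * g
    rw [MulAut.conjNormal_apply, inv_inv]
  rw [← h]
  rfl

theorem conjHom_fix_iff (g : K) (l : V →* ℂˣ) :
    conjHom V g l = l ↔ ∀ n : V, l ⟨g * n * g⁻¹, hVn.conj_mem (n : K) n.2 g⟩ = l n := by
  constructor
  · intro h n
    have h1 := DFunLike.congr_fun h ⟨g * n * g⁻¹, hVn.conj_mem (n : K) n.2 g⟩
    rw [conjHom_apply] at h1
    rw [← h1]
    congr 1
    apply Subtype.ext
    show g⁻¹ * (g * n * g⁻¹) * g = n
    group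
  · intro h
    apply MonoidHom.ext
    intro n
    rw [conjHom_apply, ← h]
    congr 1
    apply Subtype.ext
    show g * (g⁻¹ * n * g) * g⁻¹ = n
    group

theorem le_ker_conjHom (hc : ∀ a b : V, a * b = b * a) : V ≤ (conjHom V).ker := by
  intro v hv
  rw [MonoidHom.mem_ker]
  apply MulEquiv.ext
  intro l
  show conjHom V v l = l
  rw [conjHom_fix_iff]
  intro n
  congr 1
  apply Subtype.ext
  have h1 := congrArg Subtype.val (hc ⟨v, hv⟩ n)
  simp only [Subgroup.coe_mul] at h1
  show v * n * v⁻¹ = n
  rw [h1, mul_inv_cancel_right]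

end act

/-- The additive form of an action by automorphisms. -/
@[reducible] def distOf {A : Type v} [Group A] {L : Type u} [CommGroup L] (ρ : A →* MulAut L) :
    DistribMulAction A (Additive L) where
  smul a m := Additive.ofMul (ρ a m.toMul)
  one_smul m := by
    show Additive.ofMul (ρ 1 m.toMul) = m
    rw [map_one]; rfl
  mul_smul a b m := by
    show Additive.ofMul (ρ (a * b) m.toMul) = Additive.ofMul (ρ a (ρ b m.toMul))
    rw [map_mul]; rfl
  smul_zero a := by
    show Additive.ofMul (ρ a 1) = 0
    rw [map_one]; rfl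
  smul_add a m m' := by
    show Additive.ofMul (ρ a (m.toMul * m'.toMul)) = Additive.ofMul (ρ a m.toMul) + Additive.ofMul (ρ a m'.toMul)
    rw [map_mul]; rfl

/-! ## Minimal normal 2-subgroups -/

theorem elemAb {K : Type u} [Group K] [Finite K] {V : Subgroup K} [V.Normal] (h2 : IsPGroup 2 V)
    (hmin : ∀ N : Subgroup K, N.Normal → N ≤ V → N = ⊥ ∨ N = V) (hne : V ≠ ⊥) :
    (∀ a b : V, a * b = b * a) ∧ ∀ v : V, v ^ 2 = 1 := by
  have : Fact (Nat.Prime 2) := ⟨Nat.prime_two⟩
  have hnil : Group.IsNilpotent V := h2.isNilpotent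
  have hnt : Nontrivial V := (Subgroup.nontrivial_iff_ne_bot V).2 hne
  have hlt : commutator V < ⊤ := Group.IsSolvable.commutator_lt_top_of_nontrivial V
  have hcomm : ⁅V, V⁆ = ⊥ := by
    rcases hmin ⁅V, V⁆ inferInstance (Subgroup.commutator_le_left V V) with h | h
    · exact h
    · exfalso
      apply hlt.ne
      rw [← Subgroup.map_subtype_commutator] at h
      have h1 : (commutator V).map V.subtype = (⊤ : Subgroup V).map V.subtype := by
        rw [h, ← MonoidHom.range_eq_map, Subgroup.range_subtype]
      exact Subgroup.map_injective V.subtype_injective h1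
  have hc : ∀ a ∈ V, ∀ b ∈ V, a * b = b * a := by
    intro a ha b hb
    have h1 := Subgroup.commutator_mem_commutator ha hb
    rw [hcomm, Subgroup.mem_bot] at h1
    exact commutatorElement_eq_one_iff_mul_comm.1 h1
  obtain ⟨p, hp, hpow⟩ := SolvableStructure.MinimalNormal.exists_prime_pow_eq_one V hne hmin hc
  refine ⟨fun a b => Subtype.ext (hc a a.2 b b.2), ?_⟩
  have hp2 : p = 2 := by
    obtain ⟨v, hv⟩ := exists_ne (1 : V)
    obtain ⟨k, hk⟩ := h2 v
    have h1 : orderOf v ∣ p := orderOf_dvd_of_pow_eq_one (Subtype.ext (by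
      rw [Subgroup.coe_pow, hpow v v.2]; rfl))
    have h3 : orderOf v ∣ 2 ^ k := orderOf_dvd_of_pow_eq_one hk
    have h4 : orderOf v ≠ 1 := fun h => hv (orderOf_eq_one_iff.1 h)
    have h5 : orderOf v = p := (Nat.dvd_prime hp).1 h1 |>.resolve_left h4
    rw [h5] at h3
    exact (Nat.prime_dvd_prime_iff_eq hp Nat.prime_two).1 (hp.dvd_of_dvd_pow h3)
  intro v
  apply Subtype.ext
  rw [Subgroup.coe_pow, ← hp2, hpow v v.2]
  rfl

end Cfsg.Agent.H848.PSq
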