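import Cfsg.Agent.H848.PSq.Asm2

/-!
# S4844, team PSQ, PS-13: `seven_two` from facts on the alternating group of degree 7
-/

set_option autoImplicit false
set_option linter.unusedSectionVars false

namespace Cfsg.Agent.H848.PSq

open Cfsg Subgroup Cfsg.Agent.Characters Cfsg.Agent.Characters.Core Cfsg.Agent.H33

universe u v w

/-- The stabilizer of an element. -/
def stab {A : Type v} [Group A] {L : Type u} [Group L] (ρ : A →* MulAut L) (l : L) : Subgroup A where
  carrier := {a | ρ a l = l}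
  one_mem' := by
    show ρ 1 l = l
    rw [map_one]; rfl
  mul_mem' := by
    intro a b ha hb
    have ha' : ρ a l = l := ha
    have hb' : ρ b l = l := hb
    show ρ (a * b) l = l
    rw [map_mul, MulAut.mul_apply, hb', ha']
  inv_mem' := by
    intro a ha
    have ha' : ρ a l = l := ha
    show ρ a⁻¹ l = l
    rw [map_inv]
    conv_lhs => rw [← ha']
    exact MulAut.inv_apply_self L (ρ a) l

theorem mem_stab {A : Type v} [Group A] {L : Type u} [Group L] (ρ : A →* MulAut L) (l : L) (a : A) :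
    a ∈ stab ρ l ↔ ρ a l = l := Iff.rfl

/-- An invariant linear character of a noncentral minimal normal subgroup is trivial. -/
theorem eq_one_of_invariant {K : Type u} [Group K] {V : Subgroup K} [hVn : V.Normal]
    (hmin : ∀ N : Subgroup K, N.Normal → N ≤ V → N = ⊥ ∨ N = V) (hnc : ¬ V ≤ center K) (lam : V →* ℂˣ)
    (hinv : ∀ (g : K) (n : V), lam ⟨g * n * g⁻¹, hVn.conj_mem (n : K) n.2 g⟩ = lam n) : lam = 1 := by
  have hN : (lam.ker.map V.subtype).Normal := by
    constructor
    rintro _ ⟨v, hv, rfl⟩ g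
    refine ⟨⟨g * v * g⁻¹, hVn.conj_mem (v : K) v.2 g⟩, ?_, rfl⟩
    show lam _ = 1
    rw [hinv]
    exact hv
  have hle : lam.ker.map V.subtype ≤ V := by
    rintro _ ⟨v, _, rfl⟩
    exact v.2
  rcases hmin _ hN hle with h | h
  · exfalso
    apply hnc
    have hinj : ∀ v : V, lam v = 1 → v = 1 := by
      intro v hv
      have h1 : (v : K) ∈ lam.ker.map V.subtype := ⟨v, hv, rfl⟩
      rw [h, mem_bot] at h1
      exact Subtype.ext h1
    intro v hv
    rw [mem_center_iff]
    intro g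
    have h1 := hinv g ⟨v, hv⟩
    have h2 : lam (⟨g * v * g⁻¹, hVn.conj_mem v hv g⟩ * (⟨v, hv⟩ : V)⁻¹) = 1 := by
      rw [map_mul, map_inv, h1, mul_inv_cancel]
    have h3 := congrArg Subtype.val (hinj _ h2)
    have h4 : g * v * g⁻¹ * v⁻¹ = 1 := h3
    rw [mul_inv_eq_one, mul_inv_eq_iff_eq_mul] at h4
    exact h4
  · apply MonoidHom.ext
    intro v
    have h1 : (v : K) ∈ lam.ker.map V.subtype := by
      rw [h]
      exact v.2
    obtain ⟨w, hw, hwv⟩ := h1
    have h2 : w = v := Subtype.ext hwv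
    rw [← h2]
    exact hw

theorem seven_two_of (F : Fa) {K : Type u} [Group K] [Finite K] {V : Subgroup K} [hVn : V.Normal]
    (h2 : IsPGroup 2 V) (hmin : ∀ N : Subgroup K, N.Normal → N ≤ V → N = ⊥ ∨ N = V) (hnc : ¬ V ≤ center K)
    (e : Nonempty (K ⧸ V ≃* alternatingGroup (Fin 7))) : IM 4 K := by
  classical
  by_contra hIM
  obtain ⟨e⟩ := e
  have hne : V ≠ ⊥ := by
    rintro rfl
    exact hnc bot_le
  obtain ⟨hc, hsq⟩ := elemAb h2 hmin hne
  obtain ⟨f, hfdef⟩ : ∃ f : K →* alternatingGroup (Fin 7), f = e.toMonoidHom.comp (QuotientGroup.mk' V) :=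
    ⟨_, rfl⟩
  have hf : Function.Surjective f := by
    rw [hfdef]
    exact e.surjective.comp (QuotientGroup.mk'_surjective V)
  have hV : V = f.ker := by
    ext g
    rw [hfdef, MonoidHom.mem_ker, MonoidHom.comp_apply]
    show g ∈ V ↔ e (QuotientGroup.mk' V g) = 1
    rw [map_eq_one_iff e e.injective, QuotientGroup.mk'_apply, QuotientGroup.eq_one_iff]
  -- the action
  have hker : f.ker ≤ (conjHom V).ker := hV ▸ le_ker_conjHom V hc
  obtain ⟨ρ, hρ⟩ : ∃ ρ : alternatingGroup (Fin 7) →* MulAut (V →* ℂˣ), ∀ g, ρ (f g) = conjHom V g := by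
    refine ⟨f.liftOfRightInverse (Function.surjInv hf) (Function.rightInverse_surjInv hf)
      ⟨conjHom V, hker⟩, fun g => ?_⟩
    exact MonoidHom.liftOfRightInverse_comp_apply f _ _ ⟨conjHom V, hker⟩ g
  have hstab : ∀ (lam : V →* ℂˣ) (g : K), f g ∈ stab ρ lam ↔
      ∀ n : V, lam ⟨g * n * g⁻¹, hVn.conj_mem (n : K) n.2 g⟩ = lam n := by
    intro lam g
    rw [mem_stab, hρ, conjHom_fix_iff]
  have hlsq : ∀ (lam : V →* ℂˣ) v, lam v ^ 2 = 1 := fun lam v => by rw [← map_pow, hsq, map_one]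
  have hloc : ∀ lam : V →* ℂˣ, lam ≠ 1 → 4 ∣ Nat.card (stab ρ lam) ∧
      ∀ x ∈ stab ρ lam, ¬ (orderOf x = 5 ∨ orderOf x = 7) := by
    intro lam hlam
    refine local_two F hIM f hf hV lam (hlsq lam) hlam (stab ρ lam) (hstab lam) ?_
    intro htop
    apply hlam
    apply eq_one_of_invariant hmin hnc
    intro g n
    have h3 : f g ∈ stab ρ lam := by rw [htop]; trivial
    exact (hstab lam g).1 h3 n
  have hcard : Nat.card (V →* ℂˣ) = Nat.card V := by
    rw [Linear.card_hom_eq_index_commutator]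
    have h3 : commutator V = ⊥ := by
      rw [commutator_eq_bot_iff_center_eq_top, eq_top_iff]
      intro a _
      rw [mem_center_iff]
      exact fun b => hc b a
    rw [h3, index_bot]
  have hV1 : 1 < Nat.card V := (one_lt_card_iff_ne_bot V).2 hne
  have hfin : Finite (V →* ℂˣ) := Nat.finite_of_card_ne_zero (by omega)
  have hnt : Nontrivial (V →* ℂˣ) := by
    rw [← Finite.one_lt_card_iff_nontrivial]
    omega
  let _ : DistribMulAction (alternatingGroup (Fin 7)) (Additive (V →* ℂˣ)) := distOf ρ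
  have hfinA : Finite (Additive (V →* ℂˣ)) := hfin
  have hntA : Nontrivial (Additive (V →* ℂˣ)) := hnt
  have hfix : ∀ (x : alternatingGroup (Fin 7)) (m : Additive (V →* ℂˣ)), x • m = m ↔ x ∈ stab ρ m.toMul :=
    fun x m => Iff.rfl
  have e5 : ∃ x : alternatingGroup (Fin 7), orderOf x = 5 := by
    have : Fact (Nat.Prime 5) := ⟨by norm_num⟩
    exact exists_prime_orderOf_dvd_card' 5 (by rw [F.card]; norm_num)
  have e7 : ∃ x : alternatingGroup (Fin 7), orderOf x = 7 := by
    have : Fact (Nat.Prime 7) := ⟨by norm_num⟩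
    exact exists_prime_orderOf_dvd_card' 7 (by rw [F.card]; norm_num)
  refine count_absurd (A := alternatingGroup (Fin 7)) (M := Additive (V →* ℂˣ)) ?_ F.f3 F.f4 F.f5 F.f6 e5 e7
    ?_ ?_ ?_
  · intro m
    show Additive.ofMul (m.toMul * m.toMul) = 0
    have h3 : m.toMul * m.toMul = 1 := by
      apply MonoidHom.ext
      intro v
      rw [MonoidHom.mul_apply, ← pow_two, hlsq, MonoidHom.one_apply]
    rw [h3]
    rfl
  · intro x hx m hm
    by_contra hm0
    exact (hloc m.toMul (fun h => hm0 h)).2 x ((hfix x m).1 hm) (Or.inl hx)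
  · intro x hx m hm
    by_contra hm0
    exact (hloc m.toMul (fun h => hm0 h)).2 x ((hfix x m).1 hm) (Or.inr hx)
  · intro m hm
    obtain ⟨h3, -⟩ := hloc m.toMul (fun h => hm h)
    have : Fact (Nat.Prime 2) := ⟨Nat.prime_two⟩
    obtain ⟨N, hN⟩ := Sylow.exists_subgroup_card_pow_prime 2 (n := 2) (by
      rw [show (2 : ℕ) ^ 2 = 4 by norm_num]; exact h3)
    refine ⟨N.map (stab ρ m.toMul).subtype, ?_, ?_⟩
    · rw [← Nat.card_congr (N.equivMapOfInjective _ (stab ρ m.toMul).subtype_injective).toEquiv, hN]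
      norm_num
    · rintro _ ⟨a, _, rfl⟩
      exact (hfix _ m).2 a.2

end Cfsg.Agent.H848.PSq
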