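import Cfsg.Agent.H848.PSq.Rel
import Cfsg.Agent.CharactersDeep.SmallDegree

/-!
# S4844, team PSQ, PS-13: characters which are odd on a central involution
-/

set_option autoImplicit false
set_option linter.unusedSectionVars false

namespace Cfsg.Agent.H848.PSq

open Cfsg Cfsg.Agent.Characters Cfsg.Agent.Characters.Core Cfsg.Agent.H686.CharKit
open scoped ComplexConjugate

universe u v w

/-- An irreducible character of degree prime to `p` over a character of degree prime to `p` of a subgroup
of index prime to `p`. -/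
theorem exists_over_not_dvd {G : Type u} [Group G] [Fintype G] {p : ℕ} (hp : p.Prime) (S : Subgroup G)
    [Fintype S] (hS : ¬ p ∣ S.index) {η : S → ℂ} (hη : IsIrrCharacter S η) (hd : ¬ p ∣ charDegree η) :
    ∃ χ : G → ℂ, IsIrrCharacter G χ ∧ classInner (fun s : S => χ s) η ≠ 0 ∧ ¬ p ∣ charDegree χ := by
  classical
  have hind : IsCharacter G (indFun S η) := CharDeep.CliffordCorr.isCharacter_indFun S (isIrr_isCharacter hη)
  obtain ⟨χ, hχ, hχη, c, hc, hpc, -⟩ := H687.exists_irr_constituent (p := p) hind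
    (d := S.index * charDegree η) (by
      rw [CharactersDeep.NormalInd.indFun_one, ← charDegree_cast (isIrr_isCharacter hη)]
      push_cast
      rfl) (by
      intro h
      rcases hp.dvd_mul.1 h with h | h
      · exact hS h
      · exact hd h)
  refine ⟨χ, hχ, ?_, by rwa [H672.charDegree_of_eq hc]⟩
  intro h2
  apply hχη
  rw [CharactersDeep.NormalInd.classInner_indFun S η χ (isIrr_isClassFunction hχ), ← classInner_conj_symm]
  rw [h2, map_zero]

section half

variable {X : Type u} [Group X] [Finite X] {z : X}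

/-- The irreducible characters on which the central involution `z` acts as `-1`. -/
def Od (z : X) (χ : IrrCharacter X) : Prop := (χ : X → ℂ) z = -(χ : X → ℂ) 1

theorem dich (hz : ∀ g, g * z = z * g) (hz2 : z * z = 1) (χ : IrrCharacter X) :
    (¬ Od z χ ∧ ∀ g, (χ : X → ℂ) (g * z) = (χ : X → ℂ) g) ∨
    (Od z χ ∧ ∀ g, (χ : X → ℂ) (g * z) = -(χ : X → ℂ) g) := by
  obtain ⟨ω, _, h⟩ := CharactersDeep.SmallDegree.exists_central_mul χ.2 hz
  have h0 := isIrr_apply_one_ne_zero χ.2
  have h1 := h 1
  have h2 := h z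
  rw [one_mul] at h1
  rw [hz2, h1, ← mul_assoc] at h2
  have h3 : ω * ω = 1 := by
    have h4 : ω * ω * (χ : X → ℂ) 1 = 1 * (χ : X → ℂ) 1 := by rw [← h2, one_mul]
    exact mul_right_cancel₀ h0 h4
  rcases mul_self_eq_one_iff.1 h3 with h4 | h4
  · left
    subst h4
    refine ⟨fun h5 => h0 ?_, fun g => by rw [h g, one_mul]⟩
    unfold Od at h5
    rw [h1, one_mul] at h5
    exact self_eq_neg.1 h5
  · right
    subst h4
    refine ⟨by unfold Od; rw [h1, neg_one_mul], fun g => by rw [h g, neg_one_mul]⟩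

open Classical in
theorem half [Fintype (IrrCharacter X)] (hz : ∀ g, g * z = z * g) (hz2 : z * z = 1) (g h : X)
    (hgh : ¬ IsConj (g * z) h) :
    2 * ∑ χ ∈ Finset.univ.filter (fun χ : IrrCharacter X => Od z χ), (χ : X → ℂ) g * conj ((χ : X → ℂ) h)
      = if IsConj g h then (Nat.card (Subgroup.centralizer ({h} : Set X)) : ℂ) else 0 := by
  have h1 := col_orth g h
  have h2 := col_orth (g * z) h
  rw [if_neg hgh] at h2
  rw [← h1, ← sub_zero (∑ χ : IrrCharacter X, (χ : X → ℂ) g * conj ((χ : X → ℂ) h)), ← h2,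
    ← Finset.sum_sub_distrib, Finset.mul_sum, Finset.sum_filter]
  apply Finset.sum_congr rfl
  intro χ _
  rcases dich hz hz2 χ with ⟨h3, h4⟩ | ⟨h3, h4⟩
  · rw [if_neg h3, h4]; ring
  · rw [if_pos h3, h4]; ring

theorem not_conj_one (hz1 : z ≠ 1) : ¬ IsConj ((1 : X) * z) 1 := by
  intro h
  rw [one_mul] at h
  exact hz1 (isConj_one_left.1 h)

theorem card_centralizer_one : Nat.card (Subgroup.centralizer ({(1 : X)} : Set X)) = Nat.card X := by
  have : Subgroup.centralizer ({(1 : X)} : Set X) = ⊤ := by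
    rw [eq_top_iff]
    intro x _
    rw [Subgroup.mem_centralizer_iff]
    intro y hy
    rw [Set.mem_singleton_iff.1 hy, one_mul, mul_one]
  rw [this, Subgroup.card_top]

open Classical in
theorem half_sq [Fintype (IrrCharacter X)] (hz : ∀ g, g * z = z * g) (hz2 : z * z = 1) (hz1 : z ≠ 1) :
    2 * ∑ χ ∈ Finset.univ.filter (fun χ : IrrCharacter X => Od z χ), charDegree (χ : X → ℂ) ^ 2
      = Nat.card X := by
  have h1 := half hz hz2 1 1 (not_conj_one hz1)
  rw [if_pos (IsConj.refl _), card_centralizer_one] at h1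
  have h2 : ((2 * ∑ χ ∈ Finset.univ.filter (fun χ : IrrCharacter X => Od z χ),
      charDegree (χ : X → ℂ) ^ 2 : ℕ) : ℂ) = (Nat.card X : ℂ) := by
    rw [← h1]
    push_cast
    congr 1
    apply Finset.sum_congr rfl
    intro χ _
    rw [← charDegree_irr χ, Complex.conj_natCast, sq]
  exact_mod_cast h2

open Classical in
theorem half_norm [Fintype (IrrCharacter X)] (hz : ∀ g, g * z = z * g) (hz2 : z * z = 1) {u : X}
    (hu : ¬ IsConj (u * z) u) :
    2 * ∑ χ ∈ Finset.univ.filter (fun χ : IrrCharacter X => Od z χ), Complex.normSq ((χ : X → ℂ) u)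
      = (Nat.card (Subgroup.centralizer ({u} : Set X)) : ℝ) := by
  have h1 := half hz hz2 u u hu
  rw [if_pos (IsConj.refl _)] at h1
  have h2 : ((2 * ∑ χ ∈ Finset.univ.filter (fun χ : IrrCharacter X => Od z χ),
      Complex.normSq ((χ : X → ℂ) u) : ℝ) : ℂ)
      = (Nat.card (Subgroup.centralizer ({u} : Set X)) : ℂ) := by
    rw [← h1]
    push_cast
    congr 1
    apply Finset.sum_congr rfl
    intro χ _
    rw [Complex.mul_conj]
  exact_mod_cast h2

open Classical in
theorem half_mul [Fintype (IrrCharacter X)] (hz : ∀ g, g * z = z * g) (hz2 : z * z = 1) {u : X}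
    (hu : u ≠ 1) (hu2 : u * z ≠ 1) :
    ∑ χ ∈ Finset.univ.filter (fun χ : IrrCharacter X => Od z χ),
      (charDegree (χ : X → ℂ) : ℂ) * (χ : X → ℂ) u = 0 := by
  have h1 := half hz hz2 u 1 (fun h => hu2 (isConj_one_left.1 h))
  rw [if_neg (fun h => hu (isConj_one_left.1 h))] at h1
  have h2 := (mul_eq_zero.1 h1).resolve_left two_ne_zero
  rw [← h2]
  apply Finset.sum_congr rfl
  intro χ _
  rw [← charDegree_irr χ, Complex.conj_natCast, mul_comm]

end half

end Cfsg.Agent.H848.PSq
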