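import Cfsg.Agent.H848.PSq.Half

/-!
# S4844, team PSQ, PS-13: all degrees over `z` congruent to 2 modulo 4
-/

set_option autoImplicit false
set_option linter.unusedSectionVars false

namespace Cfsg.Agent.H848.PSq

open Cfsg Cfsg.Agent.Characters Cfsg.Agent.Characters.Core Cfsg.Agent.H686.CharKit
open scoped ComplexConjugate

universe u v w

theorem inner_zero {S : Type u} [Group S] [Fintype S] {z : S} {f φ : S → ℂ} (h1 : ∀ g, f (g * z) = -f g)
    (h2 : ∀ g, φ (g * z) = φ g) : classInner f φ = 0 := by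
  have h3 : ∑ g : S, f g * conj (φ g) = -∑ g : S, f g * conj (φ g) := by
    conv_lhs => rw [← Equiv.sum_comp (Equiv.mulRight z)]
    rw [← Finset.sum_neg_distrib]
    apply Finset.sum_congr rfl
    intro g _
    rw [Equiv.coe_mulRight, h1, h2, neg_mul]
  rw [classInner_def, self_eq_neg.1 h3, mul_zero]

theorem inner_zero' {S : Type u} [Group S] [Fintype S] {z : S} {f φ : S → ℂ} (h1 : ∀ g, f (g * z) = f g)
    (h2 : ∀ g, φ (g * z) = -φ g) : classInner f φ = 0 := by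
  rw [← classInner_conj_symm, inner_zero h2 h1, map_zero]

open Classical in
theorem sylow_vals {S : Type u} [Group S] [Finite S] [Fintype (IrrCharacter S)] {z u : S}
    (hz : ∀ g, g * z = z * g) (hz2 : z * z = 1) (hz1 : z ≠ 1) (hcard : Nat.card S = 16)
    (hev : ∀ φ : IrrCharacter S, Od z φ → 2 ∣ charDegree (φ : S → ℂ)) (hu : ¬ IsConj (u * z) u)
    (hcu : Nat.card (Subgroup.centralizer ({u} : Set S)) = 8) (hu1 : u ≠ 1) (huz : u * z ≠ 1) :
    ∃ φ₁ φ₂ : IrrCharacter S, φ₁ ≠ φ₂ ∧ (∀ φ, Od z φ ↔ φ = φ₁ ∨ φ = φ₂) ∧ charDegree (φ₁ : S → ℂ) = 2 ∧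
      charDegree (φ₂ : S → ℂ) = 2 ∧ (φ₂ : S → ℂ) u = -(φ₁ : S → ℂ) u ∧
      Complex.normSq ((φ₁ : S → ℂ) u) = 2 := by
  have h1 := half_sq hz hz2 hz1
  rw [hcard] at h1
  have hdeg : ∀ φ ∈ Finset.univ.filter (fun χ : IrrCharacter S => Od z χ), charDegree (φ : S → ℂ) = 2 := by
    intro φ hφ
    have h2 := Finset.single_le_sum (f := fun χ : IrrCharacter S => charDegree (χ : S → ℂ) ^ 2)
      (fun _ _ => Nat.zero_le _) hφ
    have h3 : charDegree (φ : S → ℂ) ^ 2 ≤ 8 := by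
      refine h2.trans ?_
      omega
    have h4 : charDegree (φ : S → ℂ) ≤ 2 := by
      by_contra h5
      push Not at h5
      have : 3 * 3 ≤ charDegree (φ : S → ℂ) ^ 2 := by rw [sq]; exact Nat.mul_le_mul h5 h5
      omega
    have h5 := hev φ (Finset.mem_filter.1 hφ).2
    have h6 := charDegree_pos φ
    omega
  have hc2 : (Finset.univ.filter (fun χ : IrrCharacter S => Od z χ)).card = 2 := by
    rw [Finset.sum_congr rfl (fun φ hφ => by rw [hdeg φ hφ]), Finset.sum_const, smul_eq_mul] at h1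
    omega
  obtain ⟨φ₁, φ₂, hne, hF⟩ := Finset.card_eq_two.1 hc2
  have hm1 : φ₁ ∈ Finset.univ.filter (fun χ : IrrCharacter S => Od z χ) := by rw [hF]; simp
  have hm2 : φ₂ ∈ Finset.univ.filter (fun χ : IrrCharacter S => Od z χ) := by rw [hF]; simp
  have h2 := half_mul hz hz2 hu1 huz
  rw [hF, Finset.sum_pair hne, hdeg _ hm1, hdeg _ hm2] at h2
  have h3 : (φ₂ : S → ℂ) u = -(φ₁ : S → ℂ) u := by
    have h4 : (2 : ℂ) * ((φ₁ : S → ℂ) u + (φ₂ : S → ℂ) u) = 0 := by rw [mul_add]; exact_mod_cast h2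
    have h5 := (mul_eq_zero.1 h4).resolve_left two_ne_zero
    exact eq_neg_of_add_eq_zero_right h5
  have h4 := half_norm hz hz2 hu
  rw [hF, Finset.sum_pair hne, hcu, h3, Complex.normSq_neg] at h4
  refine ⟨φ₁, φ₂, hne, ?_, hdeg _ hm1, hdeg _ hm2, h3, ?_⟩
  · intro φ
    have h5 : φ ∈ Finset.univ.filter (fun χ : IrrCharacter S => Od z χ) ↔ φ ∈ ({φ₁, φ₂} : Finset _) := by rw [hF]
    simpa using h5
  · push_cast at h4
    linarith

theorem card_eq_four_mul_sq {J : Type u} [Group J] [Finite J] {z u : J}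
    (hz : ∀ g, g * z = z * g) (hz2 : z * z = 1) (hz1 : z ≠ 1)
    (hdeg : ∀ χ : IrrCharacter J, Od z χ → 2 ∣ charDegree (χ : J → ℂ) ∧ ¬ 4 ∣ charDegree (χ : J → ℂ))
    (S : Subgroup J) (hS : Nat.card S = 16) (hidx : ¬ 2 ∣ S.index) (hzS : z ∈ S)
    (hcS : Subgroup.centralizer ({u} : Set J) ≤ S)
    (hcu : Nat.card (Subgroup.centralizer ({u} : Set J)) = 8)
    (hu : ¬ IsConj (u * z) u) (hu1 : u ≠ 1) (huz : u * z ≠ 1) : ∃ d, Nat.card J = 4 * d ^ 2 := by
  classical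
  have : Fintype J := Fintype.ofFinite J
  have : Fintype S := Fintype.ofFinite S
  have := finite_irr (G := J)
  have := Fintype.ofFinite (IrrCharacter J)
  have := finite_irr (G := S)
  have := Fintype.ofFinite (IrrCharacter S)
  have huS : u ∈ S := hcS (Subgroup.mem_centralizer_iff.2 fun y hy => by rw [Set.mem_singleton_iff.1 hy])
  -- the Sylow subgroup
  have hcard : Nat.card (Subgroup.centralizer ({(⟨u, huS⟩ : S)} : Set S)) = 8 := by
    have h1 : Subgroup.centralizer ({(⟨u, huS⟩ : S)} : Set S)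
        = (Subgroup.centralizer ({u} : Set J)).subgroupOf S := by
      ext x
      rw [Subgroup.mem_subgroupOf, Subgroup.mem_centralizer_iff, Subgroup.mem_centralizer_iff]
      simp only [Set.mem_singleton_iff, forall_eq]
      rw [Subtype.ext_iff]
      rfl
    rw [h1, Nat.card_congr (Subgroup.subgroupOfEquivOfLe hcS).toEquiv, hcu]
  obtain ⟨φ₁, φ₂, hne, hF, hd1, hd2, hv, hn⟩ := sylow_vals (S := S) (z := ⟨z, hzS⟩) (u := ⟨u, huS⟩)
    (fun g => Subtype.ext (hz g)) (Subtype.ext hz2) (fun h => hz1 (congrArg Subtype.val h)) hS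
    (by
      intro φ hφ
      by_contra hcon
      obtain ⟨χ, hχ, hin, hd⟩ := exists_over_not_dvd Nat.prime_two S hidx φ.2 hcon
      rcases dich hz hz2 ⟨χ, hχ⟩ with ⟨h3, h4⟩ | ⟨h3, h4⟩
      · rcases dich (X := S) (z := ⟨z, hzS⟩) (fun g => Subtype.ext (hz g)) (Subtype.ext hz2) φ with
          ⟨h5, h6⟩ | ⟨h5, h6⟩
        · exact h5 hφ
        · exact hin (inner_zero' (z := ⟨z, hzS⟩) (fun g => h4 g) h6)
      · exact hd (hdeg ⟨χ, hχ⟩ h3).1)
    (by
      intro h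
      apply hu
      rw [isConj_iff] at h ⊢
      obtain ⟨c, hc⟩ := h
      exact ⟨c, congrArg Subtype.val hc⟩)
    hcard (fun h => hu1 (congrArg Subtype.val h)) (fun h => huz (congrArg Subtype.val h))
  -- values on `u`
  have hval : ∀ χ : IrrCharacter J, Od z χ → ∃ k : ℤ, Odd k ∧ Complex.normSq ((χ : J → ℂ) u) = 2 * (k : ℝ) ^ 2 := by
    intro χ hχ
    obtain ⟨m, hm⟩ := exists_nat_comb (isCharacter_comp S.subtype (isIrr_isCharacter χ.2))
    have hm0 : ∀ φ, φ ≠ φ₁ → φ ≠ φ₂ → m φ = 0 := by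
      intro φ h1 h2
      have h3 : ¬ Od (⟨z, hzS⟩ : S) φ := by
        rw [hF]
        push Not
        exact ⟨h1, h2⟩
      rcases dich (X := S) (z := ⟨z, hzS⟩) (fun g => Subtype.ext (hz g)) (Subtype.ext hz2) φ with
          ⟨h5, h6⟩ | ⟨h5, h6⟩
      · rcases dich hz hz2 χ with ⟨h7, h8⟩ | ⟨h7, h8⟩
        · exact absurd hχ h7
        · have h9 : classInner ((χ : J → ℂ) ∘ S.subtype) (φ : S → ℂ) = 0 :=
            inner_zero (z := (⟨z, hzS⟩ : S)) (fun g => h8 g) h6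
          rw [hm, classInner_sum_nsmul_irr] at h9
          exact_mod_cast h9
      · exact absurd h5 h3
    have hsum : ∀ s : S, (χ : J → ℂ) s = m φ₁ * (φ₁ : S → ℂ) s + m φ₂ * (φ₂ : S → ℂ) s := by
      intro s
      have h1 := congrFun hm s
      rw [Finset.sum_apply] at h1
      have h2 : (χ : J → ℂ) s = ((χ : J → ℂ) ∘ S.subtype) s := rfl
      rw [h2, h1, Finset.sum_eq_add φ₁ φ₂ hne]
      · simp only [Pi.smul_apply, nsmul_eq_mul]
      · intro φ _ ⟨h3, h4⟩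
        rw [hm0 φ h3 h4, zero_smul, Pi.zero_apply]
      · intro h; exact absurd (Finset.mem_univ _) h
      · intro h; exact absurd (Finset.mem_univ _) h
    have hdχ : charDegree (χ : J → ℂ) = 2 * (m φ₁ + m φ₂) := by
      have h1 := hsum 1
      rw [Subgroup.coe_one, ← charDegree_irr χ, ← charDegree_irr φ₁, ← charDegree_irr φ₂, hd1, hd2] at h1
      have h2 : charDegree (χ : J → ℂ) = m φ₁ * 2 + m φ₂ * 2 := by exact_mod_cast h1
      omega
    have h4 := (hdeg χ hχ).2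
    refine ⟨(m φ₁ : ℤ) - m φ₂, ?_, ?_⟩
    · rw [hdχ] at h4
      rw [← Int.not_even_iff_odd]
      intro h5
      apply h4
      obtain ⟨r, hr⟩ := h5
      have : m φ₁ + m φ₂ = 2 * (m φ₁ + m φ₂) / 2 := by omega
      have h6 : ∃ q : ℕ, m φ₁ + m φ₂ = 2 * q := ⟨(m φ₁ + m φ₂) / 2, by omega⟩
      obtain ⟨q, hq⟩ := h6
      exact ⟨q, by rw [hq]; ring⟩
    · have h1 := hsum ⟨u, huS⟩
      have h2 : (χ : J → ℂ) u = (((m φ₁ : ℝ) - m φ₂ : ℝ) : ℂ) * (φ₁ : S → ℂ) ⟨u, huS⟩ := by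
        have h3 : (χ : J → ℂ) u = (χ : J → ℂ) ((⟨u, huS⟩ : S) : J) := rfl
        rw [h3, h1, hv]
        push_cast
        ring
      rw [h2, Complex.normSq_mul, Complex.normSq_ofReal, hn]
      push_cast
      ring
  -- exactly two characters
  have hsq := half_sq hz hz2 hz1
  have hnm := half_norm hz hz2 hu
  rw [hcu] at hnm
  set F := Finset.univ.filter (fun χ : IrrCharacter J => Od z χ) with hFdef
  have hge : ∀ χ ∈ F, 2 ≤ Complex.normSq ((χ : J → ℂ) u) := by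
    intro χ hχ
    obtain ⟨k, hk, hk2⟩ := hval χ (Finset.mem_filter.1 hχ).2
    rw [hk2]
    have h1 : k ≠ 0 := by rintro rfl; exact absurd hk (by decide)
    have h2 : (1 : ℤ) ≤ k ^ 2 := by
      have := sq_pos_of_ne_zero h1
      omega
    have h3 : (1 : ℝ) ≤ (k : ℝ) ^ 2 := by exact_mod_cast h2
    linarith
  have hle2 : F.card ≤ 2 := by
    have h1 := Finset.card_nsmul_le_sum F (fun χ : IrrCharacter J => Complex.normSq ((χ : J → ℂ) u)) 2 hge
    rw [nsmul_eq_mul] at h1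
    have h2 : (F.card : ℝ) ≤ 2 := by push_cast at hnm; linarith
    exact_mod_cast h2
  have hpos : 0 < Nat.card J := Nat.card_pos
  have hne0 : F.card ≠ 0 := by
    intro h
    rw [Finset.card_eq_zero.1 h, Finset.sum_empty] at hsq
    omega
  have hne1 : F.card ≠ 1 := by
    intro h
    obtain ⟨χ, hχ⟩ := Finset.card_eq_one.1 h
    have hm : χ ∈ F := by rw [hχ]; simp
    obtain ⟨k, hk, hk2⟩ := hval χ (Finset.mem_filter.1 hm).2
    rw [hχ, Finset.sum_singleton, hk2] at hnm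
    have h1 : (k : ℝ) ^ 2 = 2 := by push_cast at hnm; linarith
    have h2 : k ^ 2 = 2 := by exact_mod_cast h1
    have h3 : Odd (k ^ 2) := hk.pow
    rw [h2] at h3
    exact absurd h3 (by decide)
  obtain ⟨χ₁, χ₂, hne', hF2⟩ := Finset.card_eq_two.1 (by omega : F.card = 2)
  have hm1 : χ₁ ∈ F := by rw [hF2]; simp
  have hm2 : χ₂ ∈ F := by rw [hF2]; simp
  have hml := half_mul hz hz2 hu1 huz
  rw [← hFdef, hF2, Finset.sum_pair hne'] at hml
  rw [hF2, Finset.sum_pair hne'] at hnm hsq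
  have g1 := hge χ₁ hm1
  have g2 := hge χ₂ hm2
  have e1 : Complex.normSq ((χ₁ : J → ℂ) u) = 2 := by push_cast at hnm; linarith
  have e2 : Complex.normSq ((χ₂ : J → ℂ) u) = 2 := by push_cast at hnm; linarith
  have h5 : ((charDegree (χ₁ : J → ℂ) : ℝ) : ℂ) * (χ₁ : J → ℂ) u
      = -(((charDegree (χ₂ : J → ℂ) : ℝ) : ℂ) * (χ₂ : J → ℂ) u) := by
    rw [eq_neg_iff_add_eq_zero]
    exact_mod_cast hml
  have h6 := congrArg Complex.normSq h5
  rw [Complex.normSq_neg, Complex.normSq_mul, Complex.normSq_mul, Complex.normSq_ofReal,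
    Complex.normSq_ofReal, e1, e2] at h6
  have h7 : (charDegree (χ₁ : J → ℂ) : ℝ) * charDegree (χ₁ : J → ℂ)
      = (charDegree (χ₂ : J → ℂ) : ℝ) * charDegree (χ₂ : J → ℂ) := by linarith
  have h8 : charDegree (χ₁ : J → ℂ) * charDegree (χ₁ : J → ℂ)
      = charDegree (χ₂ : J → ℂ) * charDegree (χ₂ : J → ℂ) := by exact_mod_cast h7
  have h9 : charDegree (χ₁ : J → ℂ) = charDegree (χ₂ : J → ℂ) := Nat.mul_self_inj.1 h8
  refine ⟨charDegree (χ₁ : J → ℂ), ?_⟩
  rw [← hsq, ← h9]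
  ring

end Cfsg.Agent.H848.PSq
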