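import Cfsg.Agent.H848.PSq.Half2

/-!
# S4844, team PSQ, PS-13: passing to the quotient by the kernel of an invariant linear character of order 2
-/

set_option autoImplicit false
set_option linter.unusedSectionVars false

namespace Cfsg.Agent.H848.PSq

open Cfsg Cfsg.Agent.Characters Cfsg.Agent.Characters.Core Cfsg.Agent.H686.CharKit
open scoped ComplexConjugate

universe u v w

section lift

variable {I : Type u} [Group I] [Finite I] {V : Type v} [Group V] {T : Type w} [Group T]
  (j : V →* I) (f : I →* T) (lam : V →* ℂˣ)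

/-- The situation: `1 → V → I → T → 1`, `lam` invariant of order `2`. -/
structure Sq : Prop where
  inj : Function.Injective j
  surj : Function.Surjective f
  ex : j.range = f.ker
  inv : ∀ (g : I) (v v' : V), j v' = g * j v * g⁻¹ → lam v' = lam v
  sq : ∀ v, lam v ^ 2 = 1
  ne : lam ≠ 1

variable {j f lam}

theorem Sq.exists_conj (h : Sq j f lam) (g : I) (v : V) : ∃ v', j v' = g * j v * g⁻¹ ∧ lam v' = lam v := by
  have h1 : j v ∈ f.ker := h.ex ▸ ⟨v, rfl⟩
  have h2 : g * j v * g⁻¹ ∈ f.ker := (inferInstance : f.ker.Normal).conj_mem _ h1 g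
  rw [← h.ex] at h2
  obtain ⟨v', hv'⟩ := h2
  exact ⟨v', hv', h.inv g v v' hv'⟩

theorem Sq.normal (h : Sq j f lam) : (lam.ker.map j).Normal := by
  constructor
  rintro _ ⟨v, hv, rfl⟩ g
  obtain ⟨v', h1, h2⟩ := h.exists_conj g v
  exact ⟨v', by
    have hv0 : lam v = 1 := hv
    exact h2.trans hv0, h1⟩

theorem Sq.exists_data (h : Sq j f lam) : ∃ (J : Type u) (_ : Group J) (_ : Finite J) (q : I →* J) (π : J →* T)
    (z : J), Function.Surjective q ∧ Function.Surjective π ∧ (∀ g, g * z = z * g) ∧ z * z = 1 ∧ z ≠ 1 ∧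
    (∀ g, π g = 1 ↔ g = 1 ∨ g = z) ∧ (∀ v, (lam v = 1 ∧ q (j v) = 1) ∨ (lam v = -1 ∧ q (j v) = z)) := by
  have := h.normal
  obtain ⟨v0, hv0⟩ : ∃ v0, lam v0 ≠ 1 := by
    by_contra hcon
    push Not at hcon
    exact h.ne (MonoidHom.ext hcon)
  have hd : ∀ v, lam v = 1 ∨ lam v = -1 := by
    intro v
    have h1 : ((lam v : ℂˣ) : ℂ) ^ 2 = 1 := by
      rw [← Units.val_pow_eq_pow_val, h.sq, Units.val_one]
    rcases (mul_self_eq_one_iff.1 (by rw [← pow_two]; exact h1) : ((lam v : ℂˣ) : ℂ) = 1 ∨ ((lam v : ℂˣ) : ℂ) = -1) with h2 | h2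
    · left; exact Units.ext h2
    · right; exact Units.ext (by rw [h2]; simp)
  have hv1 : lam v0 = -1 := (hd v0).resolve_left hv0
  let W := lam.ker.map j
  have hq : ∀ v v', lam v = lam v' → (QuotientGroup.mk' W) (j v) = (QuotientGroup.mk' W) (j v') := by
    intro v v' hvv
    rw [QuotientGroup.mk'_apply, QuotientGroup.mk'_apply, QuotientGroup.eq]
    exact ⟨v⁻¹ * v', by
      show lam (v⁻¹ * v') = 1
      rw [map_mul, map_inv, hvv, inv_mul_cancel], by rw [map_mul, map_inv]⟩
  have hW : W ≤ f.ker := by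
    rintro _ ⟨v, _, rfl⟩
    exact h.ex ▸ ⟨v, rfl⟩
  refine ⟨I ⧸ W, inferInstance, inferInstance, QuotientGroup.mk' W, QuotientGroup.lift W f hW,
    QuotientGroup.mk' W (j v0), QuotientGroup.mk'_surjective W, ?_, ?_, ?_, ?_, ?_, ?_⟩
  · intro t
    obtain ⟨x, hx⟩ := h.surj t
    exact ⟨QuotientGroup.mk' W x, hx⟩
  · intro g
    obtain ⟨x, rfl⟩ := QuotientGroup.mk'_surjective W g
    obtain ⟨v', h1, h2⟩ := h.exists_conj x v0
    have h3 := hq v' v0 h2
    rw [h1, map_mul, map_mul, map_inv, mul_inv_eq_iff_eq_mul] at h3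
    exact h3
  · rw [← map_mul, ← map_mul, hq (v0 * v0) 1 (by rw [map_mul, ← pow_two, h.sq, map_one]), map_one, map_one]
  · intro h1
    rw [QuotientGroup.mk'_apply, QuotientGroup.eq_one_iff] at h1
    obtain ⟨v, hv, hvv⟩ := h1
    rw [h.inj hvv] at hv
    exact hv0 hv
  · intro g
    obtain ⟨x, rfl⟩ := QuotientGroup.mk'_surjective W g
    constructor
    · intro h1
      have h2 : x ∈ f.ker := h1
      rw [← h.ex] at h2
      obtain ⟨v, rfl⟩ := h2
      rcases hd v with h3 | h3
      · left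
        rw [hq v 1 (by rw [h3, map_one]), map_one, map_one]
      · right
        exact hq v v0 (by rw [h3, hv1])
    · rintro (h1 | h1)
      · rw [h1, map_one]
      · rw [h1]
        have h2 : j v0 ∈ f.ker := h.ex ▸ ⟨v0, rfl⟩
        exact h2
  · intro v
    rcases hd v with h3 | h3
    · left
      exact ⟨h3, by rw [hq v 1 (by rw [h3, map_one]), map_one, map_one]⟩
    · right
      exact ⟨h3, hq v v0 (by rw [h3, hv1])⟩

/-- There is a character over `lam`. -/
theorem Sq.exists_over (h : Sq j f lam) : ∃ ψ : I → ℂ, IsIrrCharacter I ψ ∧ ∀ v, ψ (j v) = ψ 1 * lam v := by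
  classical
  obtain ⟨J, _, _, q, π, z, hq, -, hz, hz2, hz1, -, hv⟩ := h.exists_data
  have := finite_irr (G := J)
  have := Fintype.ofFinite (IrrCharacter J)
  have hsq := half_sq hz hz2 hz1
  have hpos : 0 < Nat.card J := Nat.card_pos
  have hne : (Finset.univ.filter (fun χ : IrrCharacter J => Od z χ)).Nonempty := by
    rw [Finset.nonempty_iff_ne_empty]
    intro h0
    rw [h0, Finset.sum_empty] at hsq
    omega
  obtain ⟨χ, hχ⟩ := hne
  have hod := (Finset.mem_filter.1 hχ).2
  refine ⟨(χ : J → ℂ) ∘ q, isIrr_comp q hq χ.2, fun v => ?_⟩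
  rcases hv v with ⟨h1, h2⟩ | ⟨h1, h2⟩
  · rw [Function.comp_apply, Function.comp_apply, h2, h1, map_one, Units.val_one, mul_one]
  · rw [Function.comp_apply, Function.comp_apply, h2, h1, map_one]
    unfold Od at hod
    rw [hod]
    simp

/-- All degrees over `lam` are congruent to `2` modulo `4`. -/
theorem Sq.card_eq (h : Sq j f lam)
    (hdeg : ∀ ψ : I → ℂ, IsIrrCharacter I ψ → (∀ v, ψ (j v) = ψ 1 * lam v) →
      2 ∣ charDegree ψ ∧ ¬ 4 ∣ charDegree ψ)
    {u : T} (hcu : ∀ c : T, c * u = u * c → c ∈ Subgroup.zpowers u) (hu4 : orderOf u = 4) {m : ℕ}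
    (hm : Nat.card T = 8 * m) (hodd : Odd m) : ∃ d, Nat.card T = 2 * d ^ 2 := by
  classical
  obtain ⟨J, _, _, q, π, z, hq, hπ, hz, hz2, hz1, hker, hv⟩ := h.exists_data
  have hfT : Finite T := Finite.of_surjective π hπ
  obtain ⟨w, hw⟩ := hπ u
  have hzk : π z = 1 := (hker z).2 (Or.inr rfl)
  have hkc : Nat.card π.ker = 2 := by
    have h1 : (π.ker : Set J) = {1, z} := by
      ext g
      rw [SetLike.mem_coe, MonoidHom.mem_ker, hker]
      rfl
    have h2 : Nat.card π.ker = Nat.card (π.ker : Set J) := rfl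
    rw [h2, h1, Nat.card_coe_set_eq, Set.ncard_pair (Ne.symm hz1)]
  have hJ : Nat.card J = 2 * Nat.card T := by
    have h1 := Subgroup.card_mul_index π.ker
    rw [hkc, Subgroup.index_ker, MonoidHom.range_eq_top.2 hπ, Subgroup.card_top] at h1
    exact h1.symm
  -- the centralizer of `w`
  have hcw : ∀ c : J, π c ∈ Subgroup.zpowers u → c * w = w * c := by
    intro c hc
    obtain ⟨k, hk⟩ := Subgroup.mem_zpowers_iff.1 hc
    have h1 : π (c * (w ^ k)⁻¹) = 1 := by rw [map_mul, map_inv, map_zpow, hw, hk, mul_inv_cancel]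
    rcases (hker _).1 h1 with h2 | h2
    · rw [mul_inv_eq_one.1 h2]
      exact ((Commute.refl w).zpow_left k).eq
    · rw [mul_inv_eq_iff_eq_mul.1 h2, mul_assoc, ((Commute.refl w).zpow_left k).eq, ← mul_assoc, ← mul_assoc, hz]
  have hC : Subgroup.centralizer ({w} : Set J) = (Subgroup.zpowers u).comap π := by
    ext c
    rw [Subgroup.mem_comap, Subgroup.mem_centralizer_iff]
    simp only [Set.mem_singleton_iff, forall_eq]
    constructor
    · intro h1
      apply hcu
      rw [← hw, ← map_mul, ← map_mul, h1]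
    · intro h1
      exact (hcw c h1).symm
  have hC8 : Nat.card (Subgroup.centralizer ({w} : Set J)) = 8 := by
    have h1 := Subgroup.card_mul_index ((Subgroup.zpowers u).comap π)
    rw [Subgroup.index_comap_of_surjective _ hπ, hJ] at h1
    have h2 := Subgroup.card_mul_index (Subgroup.zpowers u)
    rw [Nat.card_zpowers, hu4] at h2
    have h3 : 0 < (Subgroup.zpowers u).index := Nat.pos_of_ne_zero (Subgroup.index_ne_zero_of_finite)
    rw [hC]
    have h4 : Nat.card ((Subgroup.zpowers u).comap π) * (Subgroup.zpowers u).index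
        = 8 * (Subgroup.zpowers u).index := by rw [h1, ← h2]; ring
    exact Nat.eq_of_mul_eq_mul_right h3 h4
  have hwz : ¬ IsConj (w * z) w := by
    intro h1
    rw [isConj_iff] at h1
    obtain ⟨c, hc⟩ := h1
    have h2 : π c * u = u * π c := by
      have h3 := congrArg π hc
      rw [map_mul, map_mul, map_mul, hzk, mul_one, map_inv, hw] at h3
      exact mul_inv_eq_iff_eq_mul.1 h3
    have h3 := hcw c (hcu _ h2)
    rw [← mul_assoc, h3, mul_assoc w c z, hz c, ← mul_assoc, mul_inv_cancel_right] at hc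
    exact hz1 (mul_eq_left.1 hc)
  have hu1 : u ≠ 1 := by
    rintro rfl
    rw [orderOf_one] at hu4
    omega
  have hw1 : w ≠ 1 := by
    rintro rfl
    exact hu1 (by rw [← hw, map_one])
  have hwz1 : w * z ≠ 1 := by
    intro h1
    have h2 := congrArg π h1
    rw [map_mul, hzk, mul_one, hw, map_one] at h2
    exact hu1 h2
  have hpg : IsPGroup 2 (Subgroup.centralizer ({w} : Set J)) := IsPGroup.of_card (n := 3) (by rw [hC8]; norm_num)
  have : Fact (Nat.Prime 2) := ⟨Nat.prime_two⟩
  obtain ⟨S, hS⟩ := hpg.exists_le_sylow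
  have hS16 : Nat.card (S : Subgroup J) = 16 := by
    rw [S.card_eq_multiplicity, hJ, hm]
    have h1 : 2 * (8 * m) = 2 ^ 4 * m := by ring
    have hm0 : m ≠ 0 := by rintro rfl; exact absurd hodd (by decide)
    rw [h1, Nat.factorization_mul (by norm_num) hm0, Nat.Prime.factorization_pow Nat.prime_two]
    have h2 : m.factorization 2 = 0 := Nat.factorization_eq_zero_of_not_dvd (by
      rw [← even_iff_two_dvd, Nat.not_even_iff_odd]; exact hodd)
    rw [Finsupp.add_apply, h2, Finsupp.single_eq_same]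
    norm_num
  obtain ⟨d, hd⟩ := card_eq_four_mul_sq (u := w) hz hz2 hz1 (by
    intro χ hχ
    have h1 := hdeg ((χ : J → ℂ) ∘ q) (isIrr_comp q hq χ.2) (by
      intro v
      rcases hv v with ⟨h1, h2⟩ | ⟨h1, h2⟩
      · rw [Function.comp_apply, Function.comp_apply, h2, h1, map_one, Units.val_one, mul_one]
      · rw [Function.comp_apply, Function.comp_apply, h2, h1, map_one]
        unfold Od at hχ
        rw [hχ]
        simp)
    have h2 : charDegree ((χ : J → ℂ) ∘ q) = charDegree (χ : J → ℂ) := by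
      unfold charDegree
      rw [Function.comp_apply, map_one]
    rwa [h2] at h1) (S : Subgroup J) hS16 S.not_dvd_index (hS (by
      rw [Subgroup.mem_centralizer_iff]
      intro y _
      exact hz y)) hS hC8 hwz hw1 hwz1
  refine ⟨d, ?_⟩
  rw [hJ] at hd
  omega

end lift

end Cfsg.Agent.H848.PSq
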