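import Cfsg.Agent.H848.PSq.Asm3
import Cfsg.Agent.H681.Sev.Sub

/-!
# S4844, team PSQ, PS-13: `seven_two` from the statement of S5009
-/

set_option autoImplicit false

namespace Cfsg.Agent.H848.PSq

open Cfsg Subgroup Cfsg.Agent.H33

universe u

theorem fa (h5009 : H681.Sev.Sub.Fact5009.{0}) : Fa where
  card := H681.Sev.A7.card_A7
  sub := by
    intro T x hx h57 hT
    exact H681.Sev.Sub.main h5009 (q := orderOf x) h57 rfl hx hT
  f3 := H681.Sev.A7.f3
  f4 := H681.Sev.A7.f4
  f5 := fun _ ht => H681.Sev.A7.f5 ht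
  f6 := fun _ hu => H681.Sev.A7.f6 hu
  f7 := by
    intro u hu c hc
    have h1 : Subgroup.zpowers u ≤ centralizer ({u} : Set (alternatingGroup (Fin 7))) := by
      rw [Subgroup.zpowers_le]
      exact mem_centralizer_singleton_iff.2 rfl
    have h2 : Subgroup.zpowers u = centralizer ({u} : Set (alternatingGroup (Fin 7))) := by
      apply Subgroup.eq_of_le_of_card_ge h1
      rw [H681.Sev.A7.f7 hu, Nat.card_zpowers, hu]
    rw [h2]
    exact mem_centralizer_singleton_iff.2 hc

/-- **PS-13** from the statement of S5009. -/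
theorem seven_two_of_fact (h5009 : H681.Sev.Sub.Fact5009.{0}) {K : Type u} [Group K] [Finite K]
    {V : Subgroup K} [V.Normal] (h2 : IsPGroup 2 V)
    (hmin : ∀ N : Subgroup K, N.Normal → N ≤ V → N = ⊥ ∨ N = V) (hnc : ¬ V ≤ center K)
    (e : Nonempty (K ⧸ V ≃* alternatingGroup (Fin 7))) : IM 4 K :=
  seven_two_of (fa h5009) h2 hmin hnc e

end Cfsg.Agent.H848.PSq
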